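import Groth.Agent.CTopVan.Profinite
import Mathlib.Topology.Spectral.ConstructibleTopology
import Mathlib.Topology.KrullDimension
import Mathlib.Topology.Sheaves.Skyscraper

/-! Vanishing of the cohomology of a spectral space above its dimension. -/

set_option autoImplicit false
set_option backward.isDefEq.respectTransparency false

universe u

open CategoryTheory CategoryTheory.Limits Opposite TopologicalSpace Abelian Topology

namespace Groth.Agent.CTopVan

variable {X Y : TopCat.{u}}

open scoped Classical in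
/-- The stalk of a pullback receives the stalk epimorphically. -/
theorem epi_stalkUnit_pushforward (f : X ⟶ Y) (F : CohTop.Ab Y) (z : X) :
    Epi ((ClosedEmb.stalkF (f z)).map ((TopCat.Sheaf.pullbackPushforwardAdjunction AddCommGrpCat.{u} f).unit.app F) ≫
      TopCat.Presheaf.stalkPushforward AddCommGrpCat.{u} f ((CohTop.pull f).obj F).obj z) := by
  refine Preadditive.epi_of_cancel_zero _ fun {A} h hh => ?_
  let adj : CohTop.pull f ⊣ CohTop.push f := TopCat.Sheaf.pullbackPushforwardAdjunction AddCommGrpCat.{u} f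
  let G : CohTop.Ab X := (CohTop.pull f).obj F
  let K : CohTop.Ab X := skyscraperSheaf z A
  let h' : G ⟶ K :=
    ⟨StalkSkyscraperPresheafAdjunctionAuxs.toSkyscraperPresheaf z h⟩
  have hz : adj.unit.app F ≫ (CohTop.push f).map h' = 0 := by
    apply CategoryTheory.Sheaf.hom_ext
    refine NatTrans.ext (funext fun U => ?_)
    obtain ⟨U⟩ := U
    by_cases hU : z ∈ (Opens.map f).obj U
    · show (adj.unit.app F).hom.app (op U) ≫
        (StalkSkyscraperPresheafAdjunctionAuxs.toSkyscraperPresheaf z h).app (op ((Opens.map f).obj U)) = 0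
      have hU' : f z ∈ U := hU
      have h1 : TopCat.Presheaf.germ F.obj U (f z) hU' ≫
          ((ClosedEmb.stalkF (f z)).map (adj.unit.app F) ≫
            TopCat.Presheaf.stalkPushforward AddCommGrpCat.{u} f ((CohTop.pull f).obj F).obj z) ≫ h = 0 :=
        (congrArg (TopCat.Presheaf.germ F.obj U (f z) hU' ≫ ·) hh).trans comp_zero
      erw [← Category.assoc, ← Category.assoc, TopCat.Presheaf.stalkFunctor_map_germ,
        Category.assoc ((adj.unit.app F).hom.app (op U)), TopCat.Presheaf.stalkPushforward_germ, Category.assoc] at h1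
      have e := StalkSkyscraperPresheafAdjunctionAuxs.germ_fromStalk z
        (StalkSkyscraperPresheafAdjunctionAuxs.toSkyscraperPresheaf z h) ((Opens.map f).obj U) hU
      rw [StalkSkyscraperPresheafAdjunctionAuxs.fromStalk_to_skyscraper] at e
      erw [e, ← Category.assoc] at h1
      exact zero_of_comp_mono _ h1
    · exact (isTerminalSkyscraperSheafObjObjOfNotMem (C := AddCommGrpCat.{u}) (A := A) (U := op ((Opens.map f).obj U)) hU).hom_ext _ _
  have h0 : h' = 0 := (adj.homEquiv _ _).injective (by
    rw [Adjunction.homEquiv_unit, Adjunction.homEquiv_unit]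
    exact hz.trans (by simp))
  refine TopCat.Presheaf.stalk_hom_ext _ fun U hU => ?_
  have h2 : (StalkSkyscraperPresheafAdjunctionAuxs.toSkyscraperPresheaf z h).app (op U) = 0 :=
    congrArg (fun q : G ⟶ K => q.hom.app (op U)) h0
  have e := StalkSkyscraperPresheafAdjunctionAuxs.germ_fromStalk z
    (StalkSkyscraperPresheafAdjunctionAuxs.toSkyscraperPresheaf z h) U hU
  rw [StalkSkyscraperPresheafAdjunctionAuxs.fromStalk_to_skyscraper, h2] at e
  rw [comp_zero]
  exact e.trans zero_comp

theorem mono_stalkUnit (f : X ⟶ Y) (F : CohTop.Ab Y) (z : X) :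
    Mono ((ClosedEmb.stalkF (f z)).map ((TopCat.Sheaf.pullbackPushforwardAdjunction AddCommGrpCat.{u} f).unit.app F)) := by
  let adj : CohTop.pull f ⊣ CohTop.push f := TopCat.Sheaf.pullbackPushforwardAdjunction AddCommGrpCat.{u} f
  haveI : IsSplitMono ((CohTop.pull f).map (adj.unit.app F)) :=
    IsSplitMono.mk' ⟨adj.counit.app _, adj.left_triangle_components F⟩
  haveI : Mono ((CohTop.pull f ⋙ ClosedEmb.stalkF z).map (adj.unit.app F)) :=
    inferInstanceAs (Mono ((ClosedEmb.stalkF z).map ((CohTop.pull f).map (adj.unit.app F))))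
  exact ((MorphismProperty.monomorphisms _).arrow_mk_iso_iff
    (Arrow.isoMk ((ClosedEmb.pullStalkIso f z).app F) ((ClosedEmb.pullStalkIso f z).app _)
      ((ClosedEmb.pullStalkIso f z).hom.naturality (adj.unit.app F)).symm)).1 this

section Spectral

variable (X)

/-- The space with its constructible topology. -/
noncomputable abbrev cons : TopCat.{u} := TopCat.of (WithConstructibleTopology X)

theorem continuous_toTopology [PrespectralSpace X] :
    Continuous (fun z : WithConstructibleTopology X => (WithTopology.ofTopology z : X)) := by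
  refine (PrespectralSpace.isTopologicalBasis (X := X)).continuous_iff.2 fun V hV => ?_
  exact WithConstructibleTopology.isOpen_iff.2
    (by simpa [Set.preimage_preimage] using hV.2.isOpen_constructibleTopology_of_isOpen hV.1)

/-- The map from the constructible topology. -/
noncomputable def consMap [PrespectralSpace X] : cons X ⟶ X := TopCat.ofHom ⟨_, continuous_toTopology X⟩

variable [SpectralSpace X]

theorem consMap_surjective : Function.Surjective (consMap X) := WithTopology.ofTopology_surjective _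

theorem consMap_injective : Function.Injective (consMap X) := WithTopology.ofTopology_injective _

theorem isClosed_preimage_consMap (V : Opens X) (hV : IsCompact (V : Set X)) :
    IsClosed ((Opens.map (consMap X)).obj V : Set (cons X)) := by
  refine ⟨WithConstructibleTopology.isOpen_iff.2 ?_⟩
  show IsOpen[constructibleTopology X] (V : Set X)ᶜ
  exact IsCompact.isOpen_constructibleTopology_of_isClosed (s := (V : Set X)ᶜ) (by rwa [compl_compl]) V.isOpen.isClosed_compl

instance : TotallySeparatedSpace (cons X) := by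
  refine totallySeparatedSpace_iff_exists_isClopen.2 fun a b hab => ?_
  have h : consMap X a ≠ consMap X b := fun e => hab (consMap_injective X e)
  obtain ⟨O, hO, hO'⟩ := exists_isOpen_xor_mem h
  have key : ∀ a b : cons X, consMap X a ∈ O → consMap X b ∉ O →
      ∃ C : Set (cons X), IsClopen C ∧ a ∈ C ∧ b ∈ Cᶜ := by
    intro a b ha hb
    obtain ⟨V, ⟨hVo, hVc⟩, haV, hVO⟩ := PrespectralSpace.isTopologicalBasis.exists_subset_of_mem_open ha hO
    exact ⟨((Opens.map (consMap X)).obj ⟨V, hVo⟩ : Opens (cons X)),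
      ⟨isClosed_preimage_consMap X ⟨V, hVo⟩ hVc, Opens.isOpen _⟩, haV, fun hb' => hb (hVO hb')⟩
  rcases hO' with ⟨h1, h2⟩ | ⟨h1, h2⟩
  · exact key a b h1 h2
  · obtain ⟨C, hC, hb, ha⟩ := key b a h1 h2
    exact ⟨Cᶜ, hC.compl, ha, by simpa using hb⟩

instance : T2Space (cons X) := ⟨fun a b hab => by
  obtain ⟨C, hC, ha, hb⟩ := totallySeparatedSpace_iff_exists_isClopen.1 inferInstance hab
  exact ⟨C, Cᶜ, hC.isOpen, hC.compl.isOpen, ha, hb, disjoint_compl_right⟩⟩

theorem lifts_preimage (V : Opens X) (hV : IsCompact (V : Set X)) : Lifts ((Opens.map (consMap X)).obj V) :=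
  lifts_of_isCompact (X := cons X) _ (isClosed_preimage_consMap X V hV).isCompact

theorem push_consMap_preservesEpi : (CohTop.push (consMap X)).PreservesEpimorphisms :=
  push_preservesEpimorphisms _ {V : Opens X | IsCompact (V : Set X)}
    (PrespectralSpace.isBasis_opens X) fun V hV => lifts_preimage X V hV

/-- The first step of the Godement resolution for the constructible topology. -/
noncomputable abbrev consSES (F : CohTop.Ab X) : ShortComplex (CohTop.Ab X) :=
  ShortComplex.mk ((TopCat.Sheaf.pullbackPushforwardAdjunction AddCommGrpCat.{u} (consMap X)).unit.app F :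
      F ⟶ (CohTop.push (consMap X)).obj ((CohTop.pull (consMap X)).obj F))
    (cokernel.π _) (cokernel.condition _)

theorem consSES_shortExact (F : CohTop.Ab X) : (consSES X F).ShortExact := by
  haveI : Mono (consSES X F).f := by
    haveI : ∀ x, Mono ((TopCat.Presheaf.stalkFunctor AddCommGrpCat.{u} x).map (consSES X F).f.1) := by
      intro x
      obtain ⟨z, rfl⟩ := consMap_surjective X x
      exact mono_stalkUnit (consMap X) F z
    exact TopCat.Presheaf.mono_of_stalk_mono _
  exact { exact := ShortComplex.exact_of_g_is_cokernel _ (cokernelIsCokernel _)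
          mono_f := inferInstance
          epi_g := inferInstanceAs (Epi (cokernel.π _)) }

variable {X}

/-- All chains of generalizations below `x` have length less than `k`. -/
def Low : ℕ → X → Prop
  | 0, _ => False
  | k + 1, x => ∀ y : X, y ⤳ x → y ≠ x → Low k y

theorem exists_chain_of_not_low : ∀ (k : ℕ) (x : X), ¬ Low k x →
    ∃ c : LTSeries (IrreducibleCloseds X), c.length = k ∧ (c.head : Set X) = closure {x}
  | 0, x, _ => ⟨RelSeries.singleton _ ⟨closure {x}, isIrreducible_singleton.closure, isClosed_closure⟩, rfl, rfl⟩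
  | k + 1, x, h => by
    simp only [Low, not_forall] at h
    obtain ⟨y, hy, hne, hy'⟩ := h
    obtain ⟨c, hc, hhead⟩ := exists_chain_of_not_low k y hy'
    refine ⟨c.cons ⟨closure {x}, isIrreducible_singleton.closure, isClosed_closure⟩ ?_, ?_, ?_⟩
    · change (_ : IrreducibleCloseds X) < c.head
      rw [← SetLike.coe_ssubset_coe, hhead]
      refine ⟨?_, fun hle => hne ?_⟩
      · exact (closure_minimal (Set.singleton_subset_iff.2 hy.mem_closure) isClosed_closure)
      · exact (Specializes.antisymm hy (specializes_iff_mem_closure.2 (hle (subset_closure rfl)))).eq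
    · simp [hc]
    · simp

theorem low_of_dim {d : ℕ} (hd : topologicalKrullDim X ≤ d) (x : X) : Low (d + 1) x := by
  by_contra h
  obtain ⟨c, hc, -⟩ := exists_chain_of_not_low (d + 1) x h
  have := (Order.LTSeries.length_le_krullDim c).trans hd
  rw [hc] at this
  norm_cast at this
  omega

/-- The stalks of `F` vanish at the points of low height. -/
def ZeroBelow (F : CohTop.Ab X) (k : ℕ) : Prop := ∀ x : X, Low k x → IsZero (CohTop.stalk F x)

theorem zero_of_germ (F : CohTop.Ab X) (k : ℕ) (hF : ZeroBelow F k) (x : X) (hx : Low (k + 1) x)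
    (z : cons X) (hz : consMap X z = x) :
    Function.Injective
      (TopCat.Presheaf.stalkPushforward AddCommGrpCat.{u} (consMap X) ((CohTop.pull (consMap X)).obj F).obj z).hom := by
  subst hz
  set G := (CohTop.pull (consMap X)).obj F
  refine (injective_iff_map_eq_zero _).2 fun a ha => ?_
  obtain ⟨V, hxV, s, rfl⟩ := TopCat.Presheaf.exists_germ_eq _ a
  obtain ⟨V', ⟨hV'o, hV'c⟩, hxV', hV'V⟩ :=
    PrespectralSpace.isTopologicalBasis.exists_subset_of_mem_open hxV V.isOpen
  let W : Opens X := ⟨V', hV'o⟩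
  let hWV : W ≤ V := hV'V
  let P : Opens (cons X) := (Opens.map (consMap X)).obj W
  let s' : G.obj.obj (op P) := (G.obj.map ((Opens.map (consMap X)).map (homOfLE hWV)).op).hom s
  have hgz : (TopCat.Presheaf.germ G.obj P z hxV').hom s' = 0 := by
    rw [← ha]
    refine (TopCat.Presheaf.germ_res_apply G.obj _ z _ s).trans ?_
    exact (ConcreteCategory.congr_hom (TopCat.Presheaf.stalkPushforward_germ AddCommGrpCat.{u} (consMap X) G.obj V z hxV) s).symm
  let Z : Set (cons X) := {w | ∃ hw : w ∈ P, (TopCat.Presheaf.germ G.obj P w hw).hom s' = 0}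
  have hZo : IsOpen Z := by
    refine isOpen_iff_forall_mem_open.2 fun w hw => ?_
    obtain ⟨hwP, hw0⟩ := hw
    obtain ⟨O, hwO, i₁, i₂, he⟩ := TopCat.Presheaf.germ_eq G.obj w hwP hwP s' 0 (hw0.trans (map_zero _).symm)
    refine ⟨O, fun v hv => ⟨i₁.le hv, ?_⟩, O.isOpen, hwO⟩
    rw [← TopCat.Presheaf.germ_res_apply G.obj i₁ v hv, he, map_zero, map_zero]
  have hgen : ∀ w ∈ P, consMap X w ⤳ consMap X z → w ∈ Z := by
    intro w hw hsp
    rcases eq_or_ne w z with rfl | hne
    · exact ⟨hw, hgz⟩
    refine ⟨hw, ?_⟩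
    have hzero : IsZero (CohTop.stalk F (consMap X w)) :=
      hF _ (hx _ hsp fun e => hne (consMap_injective X e))
    haveI := epi_stalkUnit_pushforward (consMap X) F w
    have hz0 : IsZero (CohTop.stalk G w) := IsZero.of_epi ((ClosedEmb.stalkF (consMap X w)).map
      ((TopCat.Sheaf.pullbackPushforwardAdjunction AddCommGrpCat.{u} (consMap X)).unit.app F) ≫
      TopCat.Presheaf.stalkPushforward AddCommGrpCat.{u} (consMap X) ((CohTop.pull (consMap X)).obj F).obj w) hzero
    exact @Subsingleton.elim _ (AddCommGrpCat.subsingleton_of_isZero hz0) _ _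
  have hcomp : IsCompact ((P : Set (cons X)) \ Z) :=
    (isClosed_preimage_consMap X W hV'c |>.sdiff hZo).isCompact
  have hsep : ∀ w ∈ (P : Set (cons X)) \ Z, ∃ O : Opens X, consMap X z ∈ O ∧ consMap X w ∉ O := by
    intro w hw
    have : ¬ consMap X w ⤳ consMap X z := fun h => hw.2 (hgen w hw.1 h)
    rw [specializes_iff_forall_open] at this
    push Not at this
    obtain ⟨O, hO, h1, h2⟩ := this
    obtain ⟨O', ⟨hO'o, hO'c⟩, h1', hO'O⟩ := PrespectralSpace.isTopologicalBasis.exists_subset_of_mem_open h1 hO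
    exact ⟨⟨O', hO'o⟩, h1', fun h => h2 (hO'O h)⟩
  choose O hzO hwO using hsep
  obtain ⟨O', hO'1, hO'2⟩ : ∃ O' : Opens X, consMap X z ∈ O' ∧
      ∀ w ∈ (P : Set (cons X)) \ Z, consMap X w ∉ O' := by
    classical
    have hcl : ∀ w hw, ∃ O'' : Opens X, IsCompact (O'' : Set X) ∧ O'' ≤ O w hw ∧ consMap X z ∈ O'' := fun w hw => by
      obtain ⟨V'', ⟨ho, hc⟩, hm, hs⟩ :=
        PrespectralSpace.isTopologicalBasis.exists_subset_of_mem_open (hzO w hw) (O w hw).isOpen
      exact ⟨⟨V'', ho⟩, hc, hs, hm⟩
    choose Q hQc hQO hzQ using hcl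
    obtain ⟨T, hT⟩ := hcomp.elim_finite_subcover
      (fun w : ((P : Set (cons X)) \ Z : Set (cons X)) => ((Opens.map (consMap X)).obj (Q w.1 w.2) : Set (cons X))ᶜ)
      (fun w => (isClosed_preimage_consMap X _ (hQc _ _)).isOpen_compl)
      fun w hw => Set.mem_iUnion.2 ⟨⟨w, hw⟩, fun h => hwO w hw (hQO w hw h)⟩
    refine ⟨⟨⋂ w ∈ T, (Q w.1 w.2 : Set X), isOpen_biInter_finset fun w _ => (Q w.1 w.2).isOpen⟩,
      Set.mem_iInter₂.2 fun w _ => hzQ w.1 w.2, fun w hw h => ?_⟩
    obtain ⟨w', hw', hww'⟩ := Set.mem_iUnion₂.1 (hT hw)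
    exact hww' (Set.mem_iInter₂.1 h w' hw')
  have hle : W ⊓ O' ≤ V := inf_le_left.trans hWV
  have hzero : (G.obj.map ((Opens.map (consMap X)).map (homOfLE hle)).op).hom s = 0 := by
    refine TopCat.Presheaf.section_ext G _ _ _ fun w hw => ?_
    obtain ⟨hwP, hw0⟩ : w ∈ Z := by
      by_contra h
      exact hO'2 w ⟨hw.1, h⟩ hw.2
    rw [map_zero, ← hw0]
    refine (TopCat.Presheaf.germ_res_apply G.obj _ w _ s).trans ?_
    exact (TopCat.Presheaf.germ_res_apply G.obj _ w _ s).symm
  refine (TopCat.Presheaf.germ_res_apply ((CohTop.push (consMap X)).obj G).obj (homOfLE hle) (consMap X z) ⟨hxV', hO'1⟩ s).symm.trans ?_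
  exact (congrArg _ hzero).trans (map_zero _)

theorem zeroBelow_consSES (F : CohTop.Ab X) (k : ℕ) (hF : ZeroBelow F k) :
    ZeroBelow (consSES X F).X₃ (k + 1) := by
  intro x hx
  obtain ⟨z, rfl⟩ := consMap_surjective X x
  have hS := consSES_shortExact X F
  haveI := epi_stalkUnit_pushforward (consMap X) F z
  haveI hepi : Epi ((ClosedEmb.stalkF (consMap X z)).map (consSES X F).f) := by
    haveI : Mono (TopCat.Presheaf.stalkPushforward AddCommGrpCat.{u} (consMap X)
        ((CohTop.pull (consMap X)).obj F).obj z) :=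
      (AddCommGrpCat.mono_iff_injective _).2 (zero_of_germ F k hF _ hx z rfl)
    refine ⟨fun {T} a b hab => ?_⟩
    set m := (ClosedEmb.stalkF (consMap X z)).map (consSES X F).f
    set p := TopCat.Presheaf.stalkPushforward AddCommGrpCat.{u} (consMap X) ((CohTop.pull (consMap X)).obj F).obj z
    haveI : Epi p := epi_of_epi m p
    haveI : IsIso p := isIso_of_mono_of_epi p
    have : inv p ≫ a = inv p ≫ b := by
      rw [← cancel_epi (m ≫ p), Category.assoc, IsIso.hom_inv_id_assoc, Category.assoc, IsIso.hom_inv_id_assoc]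
      exact hab
    exact (cancel_epi (inv p)).1 this
  have hex := (TopCat.Sheaf.exact_iff_stalkFunctor_map_exact _).1 hS.exact (consMap X z)
  haveI := hS.epi_g
  haveI hpc : PreservesFiniteColimits (ClosedEmb.stalkF (consMap X z)) :=
    inferInstanceAs (PreservesFiniteColimits (TopCat.Sheaf.forget AddCommGrpCat.{u} X ⋙ TopCat.Presheaf.stalkFunctor AddCommGrpCat.{u} (consMap X z)))
  haveI : Epi ((ClosedEmb.stalkF (consMap X z)).map (consSES X F).g) := (ClosedEmb.stalkF (consMap X z)).map_epi _
  refine IsZero.of_epi_eq_zero ((ClosedEmb.stalkF (consMap X z)).map (consSES X F).g) ?_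
  rw [← cancel_epi ((ClosedEmb.stalkF (consMap X z)).map (consSES X F).f), ← Functor.map_comp,
    (consSES X F).zero, Functor.map_zero, comp_zero]

theorem isZero_of_zeroBelow (F : CohTop.Ab X) {d : ℕ} (hd : topologicalKrullDim X ≤ d) (h : ZeroBelow F (d + 1)) :
    IsZero F := by
  rw [IsZero.iff_id_eq_zero]
  apply CategoryTheory.Sheaf.hom_ext
  refine NatTrans.ext (funext fun U => ?_)
  obtain ⟨U⟩ := U
  refine ConcreteCategory.hom_ext _ _ fun s => ?_
  refine TopCat.Presheaf.section_ext F U _ _ fun x hx => ?_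
  exact @Subsingleton.elim _ (AddCommGrpCat.subsingleton_of_isZero (h x (low_of_dim hd x))) _ _

theorem vanishing_of_zeroBelow (U : Opens X) (hU : IsCompact (U : Set X)) {d : ℕ} (hd : topologicalKrullDim X ≤ d) :
    ∀ (j k : ℕ), k + j = d + 1 → ∀ F : CohTop.Ab X, ZeroBelow F k → ∀ p : ℕ, j ≤ p → 1 ≤ p →
      Subsingleton (CohTop.HU F p U) := by
  intro j
  induction j with
  | zero =>
    intro k hk F hF p _ _
    obtain rfl : k = d + 1 := by omega
    have hz := isZero_of_zeroBelow F hd hF
    refine subsingleton_of_forall_eq 0 fun (x : Ext (CohCx.freeSheaf (Opens.grothendieckTopology X) U) F p) => ?_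
    rw [← Ext.comp_mk₀_id x, (IsZero.iff_id_eq_zero _).1 hz, Ext.mk₀_zero, Ext.comp_zero]
  | succ j ih =>
    intro k hk F hF p hp hp1
    have hS := consSES_shortExact X F
    have hC : ∀ n, Subsingleton (CohTop.HU (consSES X F).X₂ (n + 1) U) := fun n =>
      subsingleton_HU_push (consMap X) (push_consMap_preservesEpi X) (lifts_preimage X U hU) _ n
    have hQ := ih (k + 1) (by omega) _ (zeroBelow_consSES F k hF)
    obtain _ | _ | n := p
    · omega
    · obtain rfl : j = 0 := by omega
      refine SiteBase.subsingleton_HU_one_X₁ hS U (hC 0) fun s => ⟨0, ?_⟩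
      have hz := isZero_of_zeroBelow _ hd (show ZeroBelow (consSES X F).X₃ (d + 1) by
        have := zeroBelow_consSES F k hF
        rwa [show k + 1 = d + 1 by omega] at this)
      haveI : Subsingleton ((consSES X F).X₃.obj.obj (op U)) :=
        AddCommGrpCat.subsingleton_of_isZero
          ((((sheafToPresheaf _ _) ⋙ (evaluation _ _).obj (op U))).map_isZero hz)
      exact Subsingleton.elim _ _
    · exact SiteBase.subsingleton_HU_X₁_succ hS U n (hC (n + 1)) (hQ (n + 1) (by omega) (by omega))

theorem surjective_res_of_zeroBelow (U : Opens X) (hU : IsCompact (U : Set X)) {d : ℕ} (hd : topologicalKrullDim X ≤ d) :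
    ∀ (j k : ℕ), k + j = d → ∀ F : CohTop.Ab X, ZeroBelow F k →
      Function.Surjective (CohTop.res F j (le_top : U ≤ ⊤)) := by
  intro j
  induction j with
  | zero =>
    intro k hk F hF
    obtain rfl : k = d := by omega
    have hS := consSES_shortExact X F
    have hz := isZero_of_zeroBelow _ hd (zeroBelow_consSES F k hF)
    haveI : IsIso (consSES X F).f := hS.isIso_f_iff.2 hz
    intro y
    obtain ⟨φ, rfl⟩ := (Ext.mk₀_bijective (CohCx.freeSheaf (Opens.grothendieckTopology X) U) F).2 y
    set s := SiteBase.secEquiv _ U _ (φ ≫ (consSES X F).f)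
    -- extend by zero over the clopen complement
    let G := (CohTop.pull (consMap X)).obj F
    let P : Opens (cons X) := (Opens.map (consMap X)).obj U
    let P' : Opens (cons X) := ⟨(P : Set (cons X))ᶜ, (isClosed_preimage_consMap X U hU).isOpen_compl⟩
    have hcov : (⊤ : Opens (cons X)) ≤ P ⊔ P' := fun w _ => (em (w ∈ P)).elim Or.inl Or.inr
    have hbot : P ⊓ P' = ⊥ := Opens.ext (Set.inter_compl_self _)
    obtain ⟨t, ht, -⟩ : ∃ t : G.obj.obj (op ⊤), (G.obj.map (homOfLE (le_top : P ≤ ⊤)).op).hom t = s ∧ True := by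
      obtain ⟨t, ht, -⟩ := TopCat.Sheaf.existsUnique_gluing' G (fun b : ULift.{u} Bool => bif b.down then P else P') ⊤
        (fun _ => homOfLE le_top) (hcov.trans (sup_le (le_iSup_of_le ⟨true⟩ le_rfl) (le_iSup_of_le ⟨false⟩ le_rfl)))
        (fun b => match b with
          | ⟨true⟩ => s
          | ⟨false⟩ => 0) (by
          have hsub : ∀ A : Opens (cons X), A = ⊥ → Subsingleton (G.obj.obj (op A)) := fun A hA => by
            subst hA
            exact AddCommGrpCat.subsingleton_of_isZero
              (TopCat.Sheaf.isTerminalOfEqEmpty G (U := (⊥ : Opens (cons X))) rfl).isZero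
          rintro ⟨_ | _⟩ ⟨_ | _⟩
          · rfl
          · exact @Subsingleton.elim _ (hsub _ (by simpa [inf_comm] using hbot)) _ _
          · exact @Subsingleton.elim _ (hsub _ (by simpa using hbot)) _ _
          · rfl)
      exact ⟨t, ht ⟨true⟩, trivial⟩
    refine ⟨Ext.mk₀ ((SiteBase.secEquiv _ (⊤ : Opens X) (consSES X F).X₂).symm t ≫ inv (consSES X F).f), ?_⟩
    show (Ext.mk₀ (CohCx.freeSheafMap (Opens.grothendieckTopology X) (homOfLE (le_top : U ≤ ⊤)))).comp _ (zero_add 0) = _
    rw [Ext.mk₀_comp_mk₀, ← Category.assoc]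
    congr 1
    rw [IsIso.comp_inv_eq]
    apply (SiteBase.secEquiv _ U _).injective
    rw [SiteBase.secEquiv_freeSheafMap, AddEquiv.apply_symm_apply]
    exact ht
  | succ j ih =>
    intro k hk F hF y
    have hS := consSES_shortExact X F
    have hC : Subsingleton (CohTop.HU (consSES X F).X₂ (j + 1) U) :=
      subsingleton_HU_push (consMap X) (push_consMap_preservesEpi X) (lifts_preimage X U hU) _ j
    obtain ⟨q, hq⟩ := Ext.covariant_sequence_exact₁ (CohCx.freeSheaf (Opens.grothendieckTopology X) U) hS y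
      (hC.elim _ _) (n₀ := j) rfl
    obtain ⟨q', hq'⟩ := ih (k + 1) (by omega) _ (zeroBelow_consSES F k hF) q
    let q'' : Ext (CohCx.freeSheaf (Opens.grothendieckTopology X) ⊤) (consSES X F).X₃ j := q'
    refine ⟨q''.comp hS.extClass rfl, ?_⟩
    show (Ext.mk₀ (CohCx.freeSheafMap (Opens.grothendieckTopology X) (homOfLE (le_top : U ≤ ⊤)))).comp
      (q''.comp hS.extClass rfl) (zero_add (j + 1)) = y
    rw [← Ext.comp_assoc _ _ _ (zero_add j) rfl (by omega)]
    exact (congrArg (fun e : Ext (CohCx.freeSheaf (Opens.grothendieckTopology X) U) (consSES X F).X₃ j =>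
      e.comp hS.extClass rfl) hq').trans hq

theorem zeroBelow_zero (F : CohTop.Ab X) : ZeroBelow F 0 := fun _ h => h.elim

theorem subsingleton_H_of_dim_lt {d : ℕ} (hd : topologicalKrullDim X ≤ d) (F : CohTop.Ab X) (p : ℕ) (hp : d < p) :
    Subsingleton (CohTop.H F p) :=
  (subsingleton_H_iff F p).2 (vanishing_of_zeroBelow ⊤ isCompact_univ hd (d + 1) 0 (by omega) F
    (zeroBelow_zero F) p (by omega) (by omega))

end Spectral

end Groth.Agent.CTopVan
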