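import Groth.Agent.SiteBase.Top
import Groth.Agent.SiteBase.ClosedEmb
import Mathlib.Topology.Sheaves.LocallySurjective

/-! Generic acyclicity tools for abelian sheaves on spaces. -/

set_option autoImplicit false

universe u

open CategoryTheory CategoryTheory.Limits Opposite TopologicalSpace Abelian

namespace Groth.Agent.CTopVan

variable {X Y : TopCat.{u}}

/-- Every epimorphism of sheaves is surjective on the sections over `W`. -/
def Lifts (W : Opens X) : Prop :=
  ∀ {F G : CohTop.Ab X} (φ : F ⟶ G), Epi φ → Function.Surjective (φ.hom.app (op W)).hom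

theorem local_lift {F G : CohTop.Ab X} (φ : F ⟶ G) (hφ : Epi φ) {U : Opens X} (s : G.obj.obj (op U))
    (x : X) (hx : x ∈ U) :
    ∃ (V : Opens X) (hV : V ≤ U) (t : F.obj.obj (op V)), x ∈ V ∧
      (φ.hom.app (op V)).hom t = (G.obj.map (homOfLE hV).op).hom s := by
  have h : CategoryTheory.Sheaf.IsLocallySurjective φ :=
    (CategoryTheory.Sheaf.isLocallySurjective_iff_epi' AddCommGrpCat.{u} _).2 hφ
  obtain ⟨V, i, ⟨t, ht⟩, hxV⟩ := (h.imageSieve_mem s : _ ∈ Opens.grothendieckTopology X U) x hx
  exact ⟨V, i.le, t, hxV, ht⟩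

theorem subsingleton_HU_of_lifts {W : Opens X} (hW : Lifts W) (F : CohTop.Ab X) (n : ℕ) :
    Subsingleton (CohTop.HU F (n + 1) W) :=
  SiteBase.subsingleton_HU_of_class (J := Opens.grothendieckTopology X) (fun _ => True) (fun U => U = W)
    (fun _ _ _ _ => trivial) (fun E hE _ _ U hU => by subst hU; exact hW E.g hE.epi_g)
    (F := F) trivial (U := W) rfl n

theorem push_preservesEpimorphisms (f : X ⟶ Y) (B : Set (Opens Y)) (hB : Opens.IsBasis B)
    (h : ∀ V ∈ B, Lifts ((Opens.map f).obj V)) : (CohTop.push f).PreservesEpimorphisms := by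
  refine ⟨fun {F G} φ hφ => (CategoryTheory.Sheaf.isLocallySurjective_iff_epi' AddCommGrpCat.{u} _).1 ⟨fun {V} s y hy => ?_⟩⟩
  obtain ⟨W, hW, hyW, hWV⟩ := Opens.isBasis_iff_nbhd.1 hB hy
  obtain ⟨t, ht⟩ := h W hW φ hφ ((G.obj.map ((Opens.map f).map (homOfLE hWV)).op).hom s)
  exact ⟨W, homOfLE hWV, ⟨t, ht⟩, hyW⟩

theorem push_preservesFiniteLimits (f : X ⟶ Y) : PreservesFiniteLimits (CohTop.push f) :=
  have : (CohTop.push f).IsRightAdjoint :=
    (TopCat.Sheaf.pullbackPushforwardAdjunction AddCommGrpCat.{u} f).isRightAdjoint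
  inferInstance

theorem push_shortExact (f : X ⟶ Y) (hf : (CohTop.push f).PreservesEpimorphisms)
    {S : ShortComplex (CohTop.Ab X)} (hS : S.ShortExact) : (S.map (CohTop.push f)).ShortExact := by
  haveI := push_preservesFiniteLimits f
  haveI := hS.mono_f
  haveI := hS.epi_g
  exact { exact := hS.exact.map_of_mono_of_preservesKernel (CohTop.push f) inferInstance inferInstance
          mono_f := (CohTop.push f).map_mono S.f
          epi_g := hf.preserves S.g }

theorem subsingleton_HU_push (f : X ⟶ Y) (hf : (CohTop.push f).PreservesEpimorphisms) {U : Opens Y}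
    (hU : Lifts ((Opens.map f).obj U)) (G : CohTop.Ab X) (n : ℕ) :
    Subsingleton (CohTop.HU ((CohTop.push f).obj G) (n + 1) U) := by
  induction n generalizing G with
  | zero =>
    refine SiteBase.subsingleton_HU_one_X₁ (push_shortExact f hf (SiteBase.injectiveSES_shortExact G)) U ?_
      (hU (SiteBase.injectiveSES G).g (SiteBase.injectiveSES_shortExact G).epi_g)
    haveI : Injective ((CohTop.push f).obj (SiteBase.injectiveSES G).X₂) :=
      SiteBase.injective_push f _
    exact SiteBase.subsingleton_HU_of_injective ((CohTop.push f).obj (SiteBase.injectiveSES G).X₂) U 0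
  | succ n ih =>
    refine SiteBase.subsingleton_HU_X₁_succ (push_shortExact f hf (SiteBase.injectiveSES_shortExact G)) U n ?_
      (ih _)
    haveI : Injective ((CohTop.push f).obj (SiteBase.injectiveSES G).X₂) :=
      SiteBase.injective_push f _
    exact SiteBase.subsingleton_HU_of_injective ((CohTop.push f).obj (SiteBase.injectiveSES G).X₂) U (n + 1)

theorem subsingleton_HU_of_push (f : X ⟶ Y) (hf : (CohTop.push f).PreservesEpimorphisms) (U : Opens Y)
    (F : CohTop.Ab X) (n : ℕ) (h : Subsingleton (CohTop.HU ((CohTop.push f).obj F) (n + 1) U)) :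
    Subsingleton (CohTop.HU F (n + 1) ((Opens.map f).obj U)) := by
  induction n generalizing F with
  | zero =>
    exact SiteBase.subsingleton_HU_one_X₁ (SiteBase.injectiveSES_shortExact F) _ inferInstance
      (SiteBase.surjective_sections_of_HU_one (push_shortExact f hf (SiteBase.injectiveSES_shortExact F)) U h)
  | succ n ih =>
    refine SiteBase.subsingleton_HU_X₁_succ (SiteBase.injectiveSES_shortExact F) _ n inferInstance (ih _ ?_)
    haveI : Injective ((CohTop.push f).obj (SiteBase.injectiveSES F).X₂) :=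
      SiteBase.injective_push f _
    exact SiteBase.subsingleton_HU_X₃ (push_shortExact f hf (SiteBase.injectiveSES_shortExact F)) U (n + 1) h
      (SiteBase.subsingleton_HU_of_injective ((CohTop.push f).obj (SiteBase.injectiveSES F).X₂) U n)

theorem subsingleton_H_iff (F : CohTop.Ab X) (n : ℕ) :
    Subsingleton (CohTop.H F n) ↔ Subsingleton (CohTop.HU F n ⊤) :=
  (SiteBase.huTerminalEquiv (J := Opens.grothendieckTopology X) isTerminalTop F n).toEquiv.subsingleton_congr.symm

end Groth.Agent.CTopVan
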