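import Groth.Agent.CTopVan.Basic
import Mathlib.Topology.Separation.Profinite

/-! Epimorphisms are surjective on sections over compact opens of Boolean spaces. -/

set_option autoImplicit false

universe u

open CategoryTheory CategoryTheory.Limits Opposite TopologicalSpace

namespace Groth.Agent.CTopVan

variable {X : TopCat.{u}} [CompactSpace X] [T2Space X] [TotallyDisconnectedSpace X]

theorem lifts_of_isCompact (W : Opens X) (hW : IsCompact (W : Set X)) : Lifts W := by
  intro F G φ hφ s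
  classical
  have hloc : ∀ x : W, ∃ (C : Opens X) (hC : C ≤ W) (t : F.obj.obj (op C)), x.1 ∈ C ∧ IsClosed (C : Set X) ∧
      (φ.hom.app (op C)).hom t = (G.obj.map (homOfLE hC).op).hom s := by
    intro x
    obtain ⟨V, hV, t, hxV, ht⟩ := local_lift φ hφ s x.1 x.2
    obtain ⟨C, hC, hxC, hCV⟩ := compact_exists_isClopen_in_isOpen V.isOpen hxV
    let C' : Opens X := ⟨C, hC.2⟩
    have h1 : C' ≤ V := hCV
    refine ⟨C', h1.trans hV, (F.obj.map (homOfLE h1).op).hom t, hxC, hC.1, ?_⟩
    rw [NatTrans.naturality_apply φ.hom, ht, ← ConcreteCategory.comp_apply, ← G.obj.map_comp]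
    rfl
  choose C hCW t hxC hCcl ht using hloc
  obtain ⟨T, hT⟩ := hW.elim_finite_subcover (fun x => (C x : Set X)) (fun x => (C x).isOpen)
    fun x hx => Set.mem_iUnion.2 ⟨⟨x, hx⟩, hxC ⟨x, hx⟩⟩
  let e : Fin T.card ≃ T := T.equivFin.symm
  let D : Fin T.card → Opens X := fun i => ⟨(C (e i).1 : Set X) \ ⋃ j : {j : Fin T.card // j < i}, (C (e j.1).1 : Set X),
    (C (e i).1).isOpen.sdiff (isClosed_iUnion_of_finite fun j => hCcl _)⟩
  have hDC : ∀ i, D i ≤ C (e i).1 := fun i z hz => hz.1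
  have hdisj : ∀ i j, i < j → Disjoint (D i : Set X) (D j : Set X) := fun i j hij =>
    Set.disjoint_left.2 fun z hzi hzj => hzj.2 (Set.mem_iUnion.2 ⟨⟨i, hij⟩, hzi.1⟩)
  have hcov : W ≤ iSup D := by
    intro z hz
    obtain ⟨x, hx, hzx⟩ := Set.mem_iUnion₂.1 (hT hz)
    have hne : (Finset.univ.filter fun i : Fin T.card => z ∈ C (e i).1).Nonempty :=
      ⟨e.symm ⟨x, hx⟩, by simpa using hzx⟩
    set i := (Finset.univ.filter fun i : Fin T.card => z ∈ C (e i).1).min' hne with hi
    have hmem := Finset.min'_mem _ hne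
    rw [← hi, Finset.mem_filter] at hmem
    refine Opens.mem_iSup.2 ⟨i, hmem.2, fun hz' => ?_⟩
    obtain ⟨⟨j, hj⟩, hzj⟩ := Set.mem_iUnion.1 hz'
    exact absurd hj (not_lt.2 (Finset.min'_le _ _ (by simp [SetLike.mem_coe.1 hzj])))
  have hbot : ∀ A : Opens X, (A : Set X) = ∅ → Subsingleton (F.obj.obj (op A)) := fun A hA => by
    obtain rfl : A = ⊥ := Opens.ext hA
    have hz := (TopCat.Sheaf.isTerminalOfEqEmpty F (U := (⊥ : Opens X)) rfl).isZero
    exact AddCommGrpCat.subsingleton_of_isZero hz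
  have hDW : ∀ i, D i ≤ W := fun i => (hDC i).trans (hCW _)
  obtain ⟨S, hS, -⟩ := TopCat.Sheaf.existsUnique_gluing' F D W (fun i => homOfLE (hDW i)) hcov
    (fun i => (F.obj.map (homOfLE (hDC i)).op).hom (t (e i).1)) (fun i j => by
      rcases eq_or_ne i j with rfl | hij
      · rfl
      · refine @Subsingleton.elim _ (hbot (D i ⊓ D j) ?_) _ _
        rw [Opens.coe_inf, ← Set.disjoint_iff_inter_eq_empty]
        rcases lt_or_gt_of_ne hij with h | h
        · exact hdisj i j h
        · exact (hdisj j i h).symm)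
  refine ⟨S, TopCat.Sheaf.eq_of_locally_eq' G D W (fun i => homOfLE (hDW i)) hcov _ _ fun i => ?_⟩
  refine (NatTrans.naturality_apply φ.hom (homOfLE (hDW i)).op S).symm.trans ?_
  refine (congrArg (φ.hom.app (op (D i))).hom (hS i)).trans ?_
  refine (NatTrans.naturality_apply φ.hom (homOfLE (hDC i)).op _).trans ?_
  rw [ht, ← ConcreteCategory.comp_apply, ← G.obj.map_comp]
  rfl

theorem subsingleton_H_succ (F : CohTop.Ab X) (p : ℕ) : Subsingleton (CohTop.H F (p + 1)) :=
  (subsingleton_H_iff F (p + 1)).2 (subsingleton_HU_of_lifts (lifts_of_isCompact ⊤ isCompact_univ) F p)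

end Groth.Agent.CTopVan
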