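import Groth.Agent.CTopVan.Spectral
import Mathlib.Topology.NoetherianSpace
import Mathlib.Topology.Sheaves.Functors

/-! Grothendieck vanishing through the soberification. -/

set_option autoImplicit false
set_option backward.isDefEq.respectTransparency false

universe u

open CategoryTheory CategoryTheory.Limits Opposite TopologicalSpace Topology

namespace Groth.Agent.CTopVan

/-- The soberification: irreducible closed subsets. -/
def Sob (X : Type u) [TopologicalSpace X] : Type u := IrreducibleCloseds X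

variable {X : Type u} [TopologicalSpace X]

/-- The open of the soberification attached to an open. -/
def sobSet (U : Set X) : Set (Sob X) := {C | ((IrreducibleCloseds.carrier C) ∩ U).Nonempty}

instance : TopologicalSpace (Sob X) where
  IsOpen s := ∃ U : Set X, IsOpen U ∧ sobSet U = s
  isOpen_univ := ⟨Set.univ, isOpen_univ, Set.eq_univ_of_forall fun C => by
    simpa [sobSet] using C.isIrreducible'.nonempty⟩
  isOpen_inter := by
    rintro _ _ ⟨U, hU, rfl⟩ ⟨V, hV, rfl⟩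
    refine ⟨U ∩ V, hU.inter hV, Set.ext fun C => ⟨?_, ?_⟩⟩
    · rintro ⟨x, hC, hxU, hxV⟩
      exact ⟨⟨x, hC, hxU⟩, ⟨x, hC, hxV⟩⟩
    · rintro ⟨hU', hV'⟩
      exact C.isIrreducible'.2 U V hU hV hU' hV'
  isOpen_sUnion := by
    intro S hS
    choose U hU hUs using hS
    refine ⟨⋃ (s) (hs : s ∈ S), U s hs, isOpen_iUnion fun s => isOpen_iUnion fun hs => hU s hs, Set.ext fun C => ⟨?_, ?_⟩⟩
    · rintro ⟨x, hC, hx⟩
      obtain ⟨s, hs, hx⟩ := Set.mem_iUnion₂.1 hx
      exact ⟨s, hs, hUs s hs ▸ (⟨x, hC, hx⟩ : C ∈ sobSet (U s hs))⟩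
    · rintro ⟨s, hs, hC⟩
      rw [← hUs s hs] at hC
      obtain ⟨x, hC', hx⟩ := hC
      exact ⟨x, hC', Set.mem_iUnion₂.2 ⟨s, hs, hx⟩⟩

theorem isOpen_sobSet {U : Set X} (hU : IsOpen U) : IsOpen (sobSet U) := ⟨U, hU, rfl⟩

/-- The canonical map. -/
def sobMap (x : X) : Sob X :=
  (⟨closure {x}, isIrreducible_singleton.closure, isClosed_closure⟩ : IrreducibleCloseds X)

theorem sobMap_mem {U : Set X} (hU : IsOpen U) (x : X) : sobMap x ∈ sobSet U ↔ x ∈ U := by
  constructor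
  · rintro ⟨y, hy, hyU⟩
    exact (specializes_iff_mem_closure.2 hy).mem_open hU hyU
  · exact fun h => ⟨x, subset_closure rfl, h⟩

theorem preimage_sobSet {U : Set X} (hU : IsOpen U) : sobMap ⁻¹' sobSet U = U :=
  Set.ext fun x => sobMap_mem hU x

theorem isInducing_sobMap : IsInducing (sobMap : X → Sob X) :=
  ⟨TopologicalSpace.ext <| funext fun s => propext <| by
    constructor
    · intro hs
      exact ⟨_, isOpen_sobSet hs, preimage_sobSet hs⟩
    · rintro ⟨_, ⟨U, hU, rfl⟩, rfl⟩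
      rwa [preimage_sobSet hU]⟩

theorem sobSet_mono {U V : Set X} (h : U ⊆ V) : sobSet U ⊆ sobSet V :=
  fun _ ⟨x, hx, hxU⟩ => ⟨x, hx, h hxU⟩

theorem compl_sobSet (Z : Set X) (C : Sob X) : C ∉ sobSet Zᶜ ↔ IrreducibleCloseds.carrier C ⊆ Z := by
  simp [sobSet, Set.not_nonempty_iff_eq_empty, ← Set.disjoint_iff_inter_eq_empty, Set.disjoint_compl_right_iff_subset]

theorem specializes_iff_le {C D : Sob X} :
    C ⤳ D ↔ (IrreducibleCloseds.carrier D) ⊆ IrreducibleCloseds.carrier C := by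
  rw [specializes_iff_forall_open]
  constructor
  · intro h x hx
    by_contra hC
    obtain ⟨y, hy, hy'⟩ := h _ (isOpen_sobSet C.isClosed'.isOpen_compl) ⟨x, hx, hC⟩
    exact hy' hy
  · rintro h _ ⟨U, hU, rfl⟩ ⟨x, hx, hxU⟩
    exact ⟨x, h hx, hxU⟩

instance : T0Space (Sob X) := by
  refine t0Space_iff_inseparable _ |>.2 fun C D h => ?_
  exact IrreducibleCloseds.ext (Set.Subset.antisymm (specializes_iff_le.1 h.specializes') (specializes_iff_le.1 h.specializes))

instance : QuasiSober (Sob X) := by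
  refine ⟨fun {S} hS hSc => ?_⟩
  obtain ⟨U, hU, hUS⟩ := hSc.isOpen_compl
  have mem : ∀ C : Sob X, C ∈ S ↔ IrreducibleCloseds.carrier C ⊆ Uᶜ := fun C => by
    rw [← compl_sobSet, compl_compl, hUS]
    simp
  have hirr : IsIrreducible Uᶜ := by
    obtain ⟨C, hC⟩ := hS.1
    refine ⟨C.isIrreducible'.nonempty.mono ((mem C).1 hC), fun V W hV hW hV' hW' => ?_⟩
    obtain ⟨x, hx, hxV⟩ := hV'
    obtain ⟨y, hy, hyW⟩ := hW'
    have hmem : ∀ z ∈ Uᶜ, sobMap z ∈ S := fun z hz =>
      (mem _).2 (closure_minimal (Set.singleton_subset_iff.2 hz) hU.isClosed_compl)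
    obtain ⟨E, hE, hE1, hE2⟩ := hS.2 _ _ (isOpen_sobSet hV) (isOpen_sobSet hW)
      ⟨sobMap x, hmem x hx, (sobMap_mem hV x).2 hxV⟩ ⟨sobMap y, hmem y hy, (sobMap_mem hW y).2 hyW⟩
    obtain ⟨z, hzE, hz⟩ := E.isIrreducible'.2 V W hV hW hE1 hE2
    exact ⟨z, (mem E).1 hE hzE, hz⟩
  let C₀ : Sob X := (⟨Uᶜ, hirr, hU.isClosed_compl⟩ : IrreducibleCloseds X)
  refine ⟨C₀, Set.ext fun C => ?_⟩
  rw [← specializes_iff_mem_closure, specializes_iff_le, mem]

instance [NoetherianSpace X] : NoetherianSpace (Sob X) := by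
  refine (noetherianSpace_iff_opens _).2 fun s => ?_
  obtain ⟨U, hU, hUs⟩ := s.isOpen
  rw [← hUs, isCompact_iff_finite_subcover]
  intro ι W hW hcov
  choose V hV hVW using hW
  have hcov' : U ⊆ ⋃ i, V i := fun x hx => by
    obtain ⟨i, hi⟩ := Set.mem_iUnion.1 (hcov ((sobMap_mem hU x).2 hx))
    exact Set.mem_iUnion.2 ⟨i, (sobMap_mem (hV i) x).1 (by rwa [hVW i])⟩
  obtain ⟨t, ht⟩ := (NoetherianSpace.isCompact U).elim_finite_subcover V hV hcov'
  refine ⟨t, fun C hC => ?_⟩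
  obtain ⟨x, hxC, hxU⟩ := hC
  obtain ⟨i, hi, hxi⟩ := Set.mem_iUnion₂.1 (ht hxU)
  exact Set.mem_iUnion₂.2 ⟨i, hi, hVW i ▸ (⟨x, hxC, hxi⟩ : C ∈ sobSet (V i))⟩

instance [NoetherianSpace X] : SpectralSpace (Sob X) where

theorem krullDim_sob : topologicalKrullDim (Sob X) = topologicalKrullDim X := by
  refine le_antisymm ?_ isInducing_sobMap.topologicalKrullDim_le
  let g : IrreducibleCloseds (Sob X) → IrreducibleCloseds X := fun S => S.isIrreducible'.genericPoint
  refine Order.krullDim_le_of_strictMono g fun S T hST => ?_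
  have hg := fun S : IrreducibleCloseds (Sob X) => S.isIrreducible'.isGenericPoint_genericPoint S.isClosed'
  have hle : (S.isIrreducible'.genericPoint) ∈ IrreducibleCloseds.carrier T := hST.le (hg S).mem
  have h1 : g S ≤ g T :=
    specializes_iff_le.1 ((hg T).specializes hle)
  refine lt_of_le_of_ne h1 fun e => hST.ne (IrreducibleCloseds.ext ?_)
  exact (hg S).def.symm.trans ((congrArg (fun C : Sob X => closure {C}) e).trans (hg T).def)

/-- Soberification as a map in `TopCat`. -/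
noncomputable def sobHom (X : TopCat.{u}) : X ⟶ TopCat.of (Sob X) :=
  TopCat.ofHom ⟨sobMap, isInducing_sobMap.continuous⟩

theorem push_sobHom_preservesEpi (X : TopCat.{u}) : (CohTop.push (sobHom X)).PreservesEpimorphisms := by
  refine ⟨fun {F G} φ hφ => (CategoryTheory.Sheaf.isLocallySurjective_iff_epi' (J := Opens.grothendieckTopology (TopCat.of.{u} (Sob X))) AddCommGrpCat.{u} ((CohTop.push (sobHom X)).map φ)).1 ⟨fun {V} s y hy => ?_⟩⟩
  obtain ⟨U, hU, hUV⟩ := V.isOpen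
  rw [SetLike.mem_coe.symm, ← hUV] at hy
  obtain ⟨x, hxy, hxU⟩ := hy
  have hxV : x ∈ (Opens.map (sobHom X)).obj V := by
    show sobMap x ∈ (V : Set (Sob X))
    rw [← hUV]
    exact (sobMap_mem hU x).2 hxU
  obtain ⟨W, hW, t, hxW, ht⟩ := local_lift φ hφ s x hxV
  let W' : Opens (Sob X) := ⟨sobSet (W : Set X), isOpen_sobSet W.isOpen⟩
  have hW'V : W' ≤ V := by
    intro C hC
    rw [SetLike.mem_coe.symm, ← hUV]
    refine sobSet_mono (fun z hz => ?_) hC
    have h1 : sobMap z ∈ (V : Set (Sob X)) := hW hz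
    rw [← hUV] at h1
    exact (sobMap_mem hU z).1 h1
  have heq : (Opens.map (sobHom X)).obj W' = W := Opens.ext (preimage_sobSet W.isOpen)
  refine ⟨W', homOfLE hW'V, ⟨(F.obj.map (eqToHom heq).op).hom t, ?_⟩, ⟨x, hxy, hxW⟩⟩
  show (φ.hom.app (op ((Opens.map (sobHom X)).obj W'))).hom ((F.obj.map (eqToHom heq).op).hom t) = _
  refine (NatTrans.naturality_apply φ.hom (eqToHom heq).op t).trans ?_
  rw [ht, ← ConcreteCategory.comp_apply, ← G.obj.map_comp]
  rfl

theorem grothendieck_vanishing {X : TopCat.{u}} [NoetherianSpace X] (d : ℕ) (hd : topologicalKrullDim X ≤ d)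
    (F : CohTop.Ab X) (p : ℕ) (hp : d < p) : Subsingleton (CohTop.H F p) := by
  obtain ⟨n, rfl⟩ : ∃ n, p = n + 1 := ⟨p - 1, by omega⟩
  rw [subsingleton_H_iff]
  have hd' : topologicalKrullDim (TopCat.of (Sob X)) ≤ d := (krullDim_sob (X := X)).le.trans hd
  haveI : SpectralSpace (TopCat.of (Sob X)) := inferInstanceAs (SpectralSpace (Sob X))
  exact subsingleton_HU_of_push (sobHom X) (push_sobHom_preservesEpi X) ⊤ F n
    ((subsingleton_H_iff _ _).1 (subsingleton_H_of_dim_lt hd' _ (n + 1) hp))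

end Groth.Agent.CTopVan
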